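import Cfsg.Agent.TO.X11.Fr
import Cfsg.Agent.TO.X.LatA
import Cfsg.Agent.TO.X.Rows

/-!
# S4817, exceptional rows, large primes: the passage to the lattice (helper4)
-/

set_option autoImplicit false
set_option linter.unusedSectionVars false

namespace Cfsg.Agent.TO.X11

open Cfsg Cfsg.Lie Matrix Module Cfsg.Agent.DL Cfsg.Agent.DL.Asm Cfsg.Agent.DL.PP Cfsg.Agent.TO.X.Big Cfsg.Agent.KZ.DatX
  Cfsg.Agent.KZ.Exc Cfsg.Agent.Nodes Cfsg.Agent.Nodes.RGDChev Cfsg.Agent.Nodes.BNOf Cfsg.Agent.Nodes.Reps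
open Cfsg.Agent.TO.X.Lat (Kil RR mem_RR rt_wm rt_neg exists_refl card_RR_le)

section Dat

variable {r : ℕ} [Fact r.Prime] {k : Type} [Field k] [CharP k r] {Y : Type} [Group Y] {N : Type} [Fintype N]
  [DecidableEq N] {ρ : Y →* GL N k} {F : MulAut Y} {G : Subgroup Y} [IsAlgClosed k] {D : Datum r ρ F G}
  {p : ℕ} [Fact p.Prime] {Adm : Matrix D.R D.R ℤ → Prop} {S : Type} [Group S]

theorem pure_co (hr : p ≠ r) (hW : ¬ p ∣ Nat.card D.W) (E : Em D p Adm S) {A : Subgroup (MulAut S)} {Q : Subgroup S}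
    (P : Pure p S A Q) : Nonempty (Co E Q) :=
  exists_co hr hW E fun u hu => P.expo u (BHZ.Nil.self_le_KK Q hu) (by
    obtain ⟨j, hj⟩ := (IsPGroup.iff_orderOf.1 P.pg) ⟨u, hu⟩
    exact ⟨j, by rw [← hj, Subgroup.orderOf_mk]⟩)

variable {E : Em D p Adm S} {Q : Subgroup S} (C : Co E Q)

theorem Co.comm {a b : S} {c c' : D.R → kˣ} (h : E.ι a = C.t c) (h' : E.ι b = C.t c') : a * b = b * a :=
  E.inj (by rw [map_mul, map_mul, h, h', ← C.t_mul, ← C.t_mul, mul_comm])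

include C in
theorem Co.ab : Q ≤ Ce Q := fun u hu v hv =>
  let ⟨_, h⟩ := C.cov u hu
  let ⟨_, h'⟩ := C.cov v hv
  C.comm h' h

theorem Co.trs (h : ∀ u ∈ Q, ∀ v ∈ Q, u ≠ 1 → v ≠ 1 → ∃ α : MulAut S, (∀ x, α x ∈ Q ↔ x ∈ Q) ∧ α u = v)
    {s s' : D.R → ZMod p} (hs : s ∈ C.B) (hs' : s' ∈ C.B) (h0 : s ≠ 0) (h0' : s' ≠ 0) :
    ∃ z A, Adm A ∧ (∀ t ∈ C.B, mv (D.Wm z * A) t ∈ C.B) ∧ s' = mv (D.Wm z * A) s := by
  obtain ⟨u, hu, e⟩ := hs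
  obtain ⟨v, hv, e'⟩ := hs'
  obtain ⟨α, h1, rfl⟩ := h u hu v hv (fun h => h0 ((C.eq_one_iff e).1 h)) fun h => h0' ((C.eq_one_iff e').1 h)
  obtain ⟨z, A, h2, h3, -⟩ := C.aut_form h1
  exact ⟨z, A, h2, fun t ⟨x, hx, h4⟩ => ⟨α x, (h1 x).2 hx, h3 x hx t h4⟩,
    ev_inj C.hζ (C.t_inj (e'.symm.trans (h3 u hu s e)))⟩

/-- the centraliser of a regular `Q` lies in the torus -/
theorem Co.cen_T (h0 : D.Sz C.Z = ∅) (h1 : ∀ z, (∀ s ∈ C.B, mv (D.Wm z) s = s) → z = 1) {b : S} (hb : b ∈ Ce Q) :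
    ∃ c, E.ι b = C.t c := by
  obtain ⟨c, hc, z, m, hz, h2, e⟩ := C.cen_form hb
  have h3 : c = 1 := Subgroup.mem_bot.1 ((RGD.Sup_le fun a ha => absurd (h0 ▸ ha) (Set.notMem_empty a)) hc)
  obtain ⟨x, hx⟩ := (D.mem_T _).1 ((D.pr_eq_one_iff ⟨z, hz⟩).1 (hz.pr_eq.trans (h1 z h2)))
  refine ⟨x, ?_⟩
  rw [Co.t, hx, ← one_mul m, ← h3, ← e]
  group

end Dat

variable {C : ChevalleyDatum} {l : ℕ} {M : CoxeterMatrix (Fin l)} {hp : IsType C l M} {r : ℕ} [Fact r.Prime] {k : Type}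
  [Field k] [CharP k r] [IsAlgClosed k] {Mx : Matrix (Fin l) (Fin l) ℤ} {X : XF hp r k Mx}
  {Adm : Matrix (Fin l) (Fin l) ℤ → Prop} {d : ℕ} {S : Type} [Group S] {p : ℕ} [Fact p.Prime]

/-- the embedding of a situation -/
noncomputable def emOf (s : XS X Adm d S) (hd : ¬ p ∣ d) : Em X.D p Adm S where
  ι := s.ι
  inj := s.ov.inj
  mem := s.ov.mem
  pw g hg h := by
    obtain ⟨m, hm⟩ := exists_pow_eq_self_of_coprime (x := g) (n := d)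
      ((((Fact.out : p.Prime).coprime_iff_not_dvd).2 hd).symm.coprime_dvd_right (orderOf_dvd_of_pow_eq_one h))
    rw [← hm]
    exact pow_mem (s.pow_mem hg) m
  aut σ :=
    let ⟨g, _, α, A, h1, h2, h3⟩ := s.aut σ
    ⟨g, trivial, α, A, h1, h2, h3⟩

theorem Wm_eq' (z : X.D.W) : X.D.Wm z = wm hp z := Wm_eq hp X z

/-- the coordinates -/
noncomputable abbrev BB {E : Em X.D p Adm S} {Q : Subgroup S} (c : Co E Q) : Submodule (ZMod p) (Fin l → ZMod p) := c.B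

theorem cast_unit {c : ℤ} (h : ¬ (p : ℤ) ∣ c) : (c : ZMod p) ≠ 0 := fun e => h ((ZMod.intCast_zmod_eq_zero_iff_dvd c p).1 e)

theorem cutB {E : Em X.D p Adm S} {A : Subgroup (MulAut S)} {Q : Subgroup S} (P : Pure p S A Q) (c : Co E Q) {c₀ : ℤ}
    {w₀ : M.Group} (hM : Mx = c₀ • wm hp w₀) (hc : ¬ (p : ℤ) ∣ c₀) :
    Cut (red p (wm hp)) (BB c) ((show M.Group from c.w) * w₀) (c₀ : ZMod p)⁻¹ := by
  have h1 : ∀ v : Fin l → ZMod p, mv (X.D.Wm c.w * X.D.Mx) v = v ↔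
      red p (wm hp) ((show M.Group from c.w) * w₀) v = (c₀ : ZMod p)⁻¹ • v := fun v => by
    have h2 : X.D.Wm c.w * X.D.Mx = c₀ • wm hp ((show M.Group from c.w) * w₀) := by
      rw [map_mul, ← mul_smul_comm, ← hM, ← Wm_eq hp X]
      rfl
    rw [eq_inv_smul_iff₀ (cast_unit hc)]
    exact (congrArg (fun A : Matrix (Fin l) (Fin l) ℤ => mv A v) h2).trans (mv_smul _ _ _) ▸ Iff.rfl
  refine ⟨fun s hs => (h1 s).1 (c.fix hs), fun v h2 h3 => c.cut P.odd P.syl ((h1 v).2 h2) fun z hz => ?_⟩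
  rw [Wm_eq' z] at hz ⊢
  exact h3 z hz

theorem trsB {E : Em X.D p Adm S} {A : Subgroup (MulAut S)} {Q : Subgroup S} (P : Pure p S A Q) (c : Co E Q)
    {s s' : Fin l → ZMod p} (hs : s ∈ BB c) (hs' : s' ∈ BB c) (h0 : s ≠ 0) (h0' : s' ≠ 0) :
    ∃ (z : M.Group) (A : Matrix (Fin l) (Fin l) ℤ), Adm A ∧ (∀ t ∈ BB c, mv (wm hp z * A) t ∈ BB c) ∧
      s' = mv (wm hp z * A) s := by
  obtain ⟨z, A, h1, h2⟩ := c.trs (fun u hu v hv h1 h2 =>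
    let ⟨α, _, h⟩ := P.abel c.ab u hu v hv h1 h2
    ⟨α, h⟩) hs hs' h0 h0'
  rw [Wm_eq' z] at h2
  exact ⟨z, A, h1, h2⟩

/-- all the admissible matrices are scalar multiples of elements of the Weyl group -/
def Sc (hp : IsType C l M) (p : ℕ) (A : Matrix (Fin l) (Fin l) ℤ) : Prop :=
  ∃ (c : ℤ) (z : M.Group), ¬ (p : ℤ) ∣ c ∧ A = c • wm hp z

theorem bigB [Finite M.Group] (h11 : 11 ≤ p) (hW : ¬ p ∣ Nat.card M.Group) {n : ℤ} (hK : Kil C l n)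
    (hn : ¬ (p : ℤ) ∣ n) (h240 : C.nroots ≤ 240) (h8 : l ≤ 8) (hA : ∀ A, Adm A → Sc hp p A) {E : Em X.D p Adm S}
    {A : Subgroup (MulAut S)} {Q : Subgroup S} (P : Pure p S A Q) (c : Co E Q) {g : M.Group} {a : ZMod p}
    (hc : Cut (red p (wm hp)) (BB c) g a) :
    p = 11 ∧ l = 8 ∧ finrank (ZMod p) (BB c) = 2 ∧ a ≠ 0 ∧ a ^ 2 ≠ 1 ∧
      (∀ z, (∀ s ∈ BB c, red p (wm hp) z s = s) → red p (wm hp) z = 1) ∧
        ∀ α ∈ RR C l, ¬ ∀ s ∈ BB c, rv p α ⬝ᵥ s = 0 := by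
  obtain ⟨B, hB⟩ := hK.mat hp
  have h := big_mat h11 hW (wm hp) (fun z a ha => mem_RR.2 (rt_wm hp (mem_RR.1 ha) z))
    (fun a ha => mem_RR.2 (rt_neg hp (mem_RR.1 ha))) hB hn
    (fun a ha => exists_refl hp (mem_RR.1 ha)) (card_RR_le.trans h240) (by rwa [Fintype.card_fin])
    (c.two_le P.nc) (fun s hs s' hs' h0 h0' => by
      obtain ⟨z, A, h1, h2, h3⟩ := trsB P c hs hs' h0 h0'
      obtain ⟨x, z', h4, rfl⟩ := hA A h1
      simp only [mul_smul_comm, ← map_mul, mv_smul] at h2 h3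
      exact ⟨z * z', fun t ht => ((BB c).smul_mem_iff (cast_unit h4)).1 (h2 t ht), x, h3⟩) hc
  rwa [Fintype.card_fin] at h

theorem not_pure (hr : p ≠ r) (h11 : 11 ≤ p) (hW : ¬ p ∣ Nat.card M.Group) {n : ℤ} (hK : Kil C l n)
    (hn : ¬ (p : ℤ) ∣ n) (h240 : C.nroots ≤ 240) (h8 : l ≤ 8) (hA : ∀ A, Adm A → Sc hp p A) (hM : Sc hp p Mx)
    (hd : ¬ p ∣ d) (h : Has hp r Mx Adm d S) (h1 : ¬ (p = 11 ∧ l = 8)) : Row p S := blk.row_of_pure fun A Q P => by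
  obtain ⟨k, _, _, _, X, ⟨s⟩⟩ := h
  have : Finite M.Group := Nat.finite_of_card_ne_zero fun e => hW (e ▸ dvd_zero p)
  obtain ⟨c⟩ := pure_co hr hW (emOf s hd) P
  obtain ⟨c₀, w₀, h2, h3⟩ := hM
  have h4 := bigB h11 hW hK hn h240 h8 hA P c (cutB P c h3 h2)
  exact h1 ⟨h4.1, h4.2.1⟩

end Cfsg.Agent.TO.X11
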